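import Mathlib
import Cfsg.Agent.S0007
import Cfsg.Agent.Lib.PSolvable.Basic

/-!
# `p`-elements whose conjugacy class has `p`-power size
-/

set_option autoImplicit false

namespace Cfsg.Agent.Lib.PPowerClass

open Subgroup

variable {G : Type*} [Group G] [Finite G] {p : ℕ} [hp : Fact p.Prime]

/-- If the class size of `x` is a power of `p`, every element is a product of an element of a given
Sylow `p`-subgroup and an element centralizing `x`. -/
theorem exists_mul_centralizer {x : G} {a : ℕ}
    (ha : (centralizer ({x} : Set G)).index = p ^ a) (P : Sylow p G) (g : G) :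
    ∃ u ∈ (P : Subgroup G), ∃ c : G, c * x = x * c ∧ g = u * c := by
  have hco : (centralizer ({x} : Set G)).index.Coprime (P : Subgroup G).index := by
    rw [ha]
    exact Nat.Coprime.pow_left a ((hp.out.coprime_iff_not_dvd).2 P.not_dvd_index)
  obtain ⟨c, hc, u, hu, hgu⟩ := (Cfsg.Agent.S0007.result _ _ hco).2 g⁻¹
  refine ⟨u⁻¹, inv_mem hu, c⁻¹, ?_, ?_⟩
  · exact mem_centralizer_singleton_iff.1 (inv_mem hc)
  · rw [← mul_inv_rev, ← hgu, inv_inv]

/-- A `p`-element with `p`-power class size lies in `O_p(G)`. -/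
theorem mem_pCore {x : G} (hx : IsPGroup p (zpowers x)) {a : ℕ}
    (ha : (centralizer ({x} : Set G)).index = p ^ a) : x ∈ Cfsg.pCore p G := by
  obtain ⟨P, hP⟩ := hx.exists_le_sylow
  have hle : normalClosure ({x} : Set G) ≤ (P : Subgroup G) := by
    refine (closure_le _).2 fun z hz => ?_
    obtain ⟨b, hb, hconj⟩ := Group.mem_conjugatesOfSet_iff.1 hz
    rw [Set.mem_singleton_iff] at hb
    subst hb
    obtain ⟨g, rfl⟩ := isConj_iff.1 hconj
    obtain ⟨u, hu, c, hc, rfl⟩ := exists_mul_centralizer ha P g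
    have : u * c * b * (u * c)⁻¹ = u * b * u⁻¹ := by
      rw [show u * c * b * (u * c)⁻¹ = u * (c * b) * c⁻¹ * u⁻¹ by group, hc]; group
    rw [this]
    exact mul_mem (mul_mem hu (hP (mem_zpowers b))) (inv_mem hu)
  exact Cfsg.Agent.Lib.PSolvable.le_pCore normalClosure_normal (P.2.to_le hle)
    (subset_normalClosure rfl)

end Cfsg.Agent.Lib.PPowerClass
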